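import Mathlib
import Cfsg.Agent.Helper58.Marggraf
import Cfsg.Agent.Helper60.Marg.Defs

/-!
# (F1) of #8720 for helper60 (S3620, Marggraf): Jordan's theorem (Mathlib) in the form needed:
a primitive group containing a transposition or a 3-cycle induces all even permutations (helper41)
-/

set_option autoImplicit false

namespace Cfsg.Agent.Helper41.Marg

open MulAction Cfsg.Agent.Helper58 Cfsg.Agent.Helper60.Marg
open scoped Pointwise

variable {G : Type*} [Group G] {Ω : Type*} [MulAction G Ω]

/-- the image of a primitive group in `Perm Ω` is primitive -/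
theorem F1_isPreprimitive_range (hprim : IsPreprimitive G Ω) :
    IsPreprimitive (MulAction.toPermHom G Ω).range Ω := by
  let φ : G → (MulAction.toPermHom G Ω).range := fun g => ⟨MulAction.toPerm g, ⟨g, rfl⟩⟩
  let f : Ω →ₑ[φ] Ω := { toFun := id, map_smul' := fun g x => rfl }
  exact IsPreprimitive.of_surjective (f := f) Function.surjective_id

/-- (F1) Jordan (Mathlib): a primitive group containing a transposition or a 3-cycle induces all
even permutations -/
theorem exists_toPerm_eq_of_small [Fintype Ω] [DecidableEq Ω] (hprim : IsPreprimitive G Ω)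
    (g : G) (hg : Small2 Ω g ∨ Small3 Ω g) :
    ∀ σ : Equiv.Perm Ω, Equiv.Perm.sign σ = 1 →
      ∃ x : G, (MulAction.toPerm x : Equiv.Perm Ω) = σ := by
  intro σ hσ
  have hR := F1_isPreprimitive_range hprim
  have hgR : (MulAction.toPerm g : Equiv.Perm Ω) ∈ (MulAction.toPermHom G Ω).range := ⟨g, rfl⟩
  have hmem : σ ∈ (MulAction.toPermHom G Ω).range := by
    rcases hg with ⟨a, b, hab, hga, hgb, hgz⟩ | ⟨a, b, c, hab, hbc, hac, hga, hgb, hgc, hgz⟩
    · have hsw : (MulAction.toPerm g : Equiv.Perm Ω) = Equiv.swap a b := by
        ext z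
        rw [MulAction.toPerm_apply]
        by_cases hza : z = a
        · rw [hza, hga, Equiv.swap_apply_left]
        · by_cases hzb : z = b
          · rw [hzb, hgb, Equiv.swap_apply_right]
          · rw [hgz z hza hzb, Equiv.swap_apply_of_ne_of_ne hza hzb]
      have htop := Equiv.Perm.subgroup_eq_top_of_isPreprimitive_of_isSwap_mem hR
        (MulAction.toPerm g) ⟨a, b, hab, hsw⟩ hgR
      rw [htop]; trivial
    · have h3 : (MulAction.toPerm g : Equiv.Perm Ω) = Equiv.swap a c * Equiv.swap a b := by
        ext z
        rw [MulAction.toPerm_apply, Equiv.Perm.mul_apply]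
        by_cases hza : z = a
        · rw [hza, hga, Equiv.swap_apply_left, Equiv.swap_apply_of_ne_of_ne hab.symm hbc]
        · by_cases hzb : z = b
          · rw [hzb, hgb, Equiv.swap_apply_right, Equiv.swap_apply_left]
          · by_cases hzc : z = c
            · rw [hzc, hgc, Equiv.swap_apply_of_ne_of_ne hac.symm hbc.symm,
                Equiv.swap_apply_right]
            · rw [hgz z hza hzb hzc, Equiv.swap_apply_of_ne_of_ne hza hzb,
                Equiv.swap_apply_of_ne_of_ne hza hzc]
      have hcyc : Equiv.Perm.IsThreeCycle (MulAction.toPerm g : Equiv.Perm Ω) := by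
        rw [h3]
        exact Equiv.Perm.isThreeCycle_swap_mul_swap_same hac hab hbc.symm
      have hle := Equiv.Perm.alternatingGroup_le_of_isPreprimitive_of_isThreeCycle_mem hR hcyc hgR
      exact hle (Equiv.Perm.mem_alternatingGroup.mpr hσ)
  obtain ⟨x, hx⟩ := hmem
  exact ⟨x, hx⟩

end Cfsg.Agent.Helper41.Marg
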