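import Mathlib
import Cfsg.Agent.Helper58.Marggraf
import Cfsg.Agent.Helper60.Marg.Defs

/-!
# (Q1) of #8720 for helper60 (S3620, Marggraf): the translates of a nonempty block (helper41)
-/

set_option autoImplicit false

namespace Cfsg.Agent.Helper41.Marg

open MulAction Cfsg.Agent.Helper58 Cfsg.Agent.Helper60.Marg
open scoped Pointwise

variable {G : Type*} [Group G] {Ω : Type*} [MulAction G Ω]

/-- (Q1) the translates of a nonempty block: cover, disjointness, size -/
theorem orbit_block_facts [Finite Ω] [IsPretransitive G Ω] {B : Set Ω} (hB : IsBlock G B)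
    (hBne : B.Nonempty) :
    (∀ x : Ω, ∃ C : orbit G B, x ∈ (C : Set Ω)) ∧
    (∀ C D : orbit G B, ∀ x : Ω, x ∈ (C : Set Ω) → x ∈ (D : Set Ω) → C = D) ∧
    (∀ C : orbit G B, (C : Set Ω).ncard = B.ncard) ∧
    Nat.card (orbit G B) * B.ncard = Nat.card Ω := by
  refine ⟨?_, ?_, ?_, ?_⟩
  · intro x
    obtain ⟨b, hb⟩ := hBne
    obtain ⟨g, hg⟩ := exists_smul_eq G b x
    exact ⟨⟨g • B, mem_orbit B g⟩, by rw [← hg]; exact Set.smul_mem_smul_set hb⟩
  · rintro ⟨C, g, rfl⟩ ⟨D, h, rfl⟩ x hxC hxD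
    apply Subtype.ext
    by_contra hne
    exact Set.disjoint_left.mp (hB hne) hxC hxD
  · rintro ⟨C, g, rfl⟩
    exact Set.ncard_smul_set g B
  · rw [Nat.card_coe_set_eq, mul_comm]
    exact hB.ncard_block_mul_ncard_orbit_eq hBne

end Cfsg.Agent.Helper41.Marg
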