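import Mathlib
import Cfsg.Agent.Helper58.Marggraf
import Cfsg.Agent.Helper60.Marg.Defs

/-!
# (Q3) of #8720 for helper60 (S3620, Marggraf): a quasiprimitive group acts faithfully on the
translates of a proper block (helper41)
-/

set_option autoImplicit false
set_option linter.unusedVariables false

namespace Cfsg.Agent.Helper41.Marg

open MulAction Cfsg.Agent.Helper58 Cfsg.Agent.Helper60.Marg
open scoped Pointwise

variable {G : Type*} [Group G] {Ω : Type*} [MulAction G Ω]

/-- (Q3) a quasiprimitive group acts faithfully on the translates of a proper block -/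
theorem faithful_orbit (hqp : ∀ N : Subgroup G, N.Normal → N ≠ ⊥ → IsPretransitive N Ω)
    [IsPretransitive G Ω] {B : Set Ω} (hB : IsBlock G B) (hBne : B.Nonempty)
    (hBuniv : B ≠ Set.univ) :
    ∀ g : G, (∀ C : orbit G B, g • C = C) → g = 1 := by
  intro g hg
  set K : Subgroup G := (MulAction.toPermHom G (orbit G B)).ker with hK
  have hmemK : ∀ k : G, k ∈ K ↔ ∀ C : orbit G B, k • C = C := by
    intro k
    rw [hK, MonoidHom.mem_ker]
    constructor
    · intro h C
      have := congrArg (fun σ : Equiv.Perm (orbit G B) => σ C) h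
      simpa using this
    · intro h
      ext C
      simp [h C]
  have hKn : K.Normal := MonoidHom.normal_ker _
  have hKbot : K = ⊥ := by
    by_contra hne
    have htr := hqp K hKn hne
    obtain ⟨b, hb⟩ := hBne
    obtain ⟨y, hy⟩ : ∃ y, y ∉ B := by
      by_contra h
      push Not at h
      exact hBuniv (Set.eq_univ_of_forall h)
    obtain ⟨k, hk⟩ := htr.exists_smul_eq b y
    have hkK := (hmemK (k : G)).mp k.2 ⟨B, mem_orbit_self B⟩
    have hkB : (k : G) • B = B := by
      have := congrArg (fun C : orbit G B => (C : Set Ω)) hkK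
      simpa using this
    apply hy
    rw [← hk, ← hkB]
    exact Set.smul_mem_smul_set hb
  have hgK : g ∈ K := (hmemK g).mpr hg
  rw [hKbot, Subgroup.mem_bot] at hgK
  exact hgK

end Cfsg.Agent.Helper41.Marg
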